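import Cfsg.Agent.Lib.GY.Gb
import Cfsg.Agent.Lib.SH.Wr
import Cfsg.Agent.Lib.Par.F22
import Cfsg.Agent.Lib.Rk2.Simple
import Cfsg.Agent.Lib.J2.Basic
import Cfsg.Agent.S3102
import Cfsg.Agent.S3100
import Cfsg.Agent.S1702

/-! # S3134: case I in `G`: a Sylow 2-subgroup of `X` is of type `G₂(q)`

`q : N(O) → Γ = N(O) / O`.  Let `Y` be a Sylow 2-subgroup of (the image in `G` of) `q⁻¹ P` containing `t`; `q` maps `Y` bijectively onto `P`
(`O` is odd; pattern `iP` in `GSt/Main.semi`).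
(a) `w ∈ Y` conjugate to `t` in `G` with `|C_Y(w)| ≥ |C_Y(t)|` is conjugate to `t` in `Y`: `i4`, `k2`; in the first alternative of `k2`, `w` is conjugate
in `N(O)` to an involution of the coset `x O`, i.e. to `x` (a lift of `z`, `x² = 1`, `x` centralises `O`), against `Co.nd` (`F.der`).
(b) `Y` is Sylow in `G`: else (`climb`) `g ∈ N(Y) \ Y`, `g² ∈ Y`; by (a) we may assume `g t = t g`, then `g ∈ N(O)` (`Co.nO`), `q g ∈ P` (`nrm`) and `⟨Y, g⟩` is a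
2-subgroup of `q⁻¹ P`.
(c) `t ∉ X`: else `X = ⊤` (`gen`) is perfect; `Par.thompson` with `H = Y`, `C = C_Y(t)`, `nd`: `w = g t g⁻¹ ∈ N ⊓ Y`, by (a) `w ∈ t [Y, Y]`, so `t ∈ N`.
(d) `X` has index 2, `S = Y ⊓ X` is Sylow in `X`, `|S| ≥ 256` (`big`).  S3102 for `X` (`Rk2.not_isolated`): the elements of `Y` over `ψ(U)` lie in `A` (`y = a o`
with `a ∈ A` a 2-element, `o ∈ O`, commuting), so in `S`.  `h3`: the lift of `V`.  `h8`: by `k1` (`x` or `x t` lifts into `X`; `cm w g ∈ E`) an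
elementary abelian normal subgroup `E` of `S` maps into `MS 97 = ⟨t⟩F`, even into `F` (`t ∉ X`), so `|E| ≤ 4`.  `U` = lift of `F` (`nF`, `F.cls`).
`|J₂|₂ = 128 < 256` (`card_J2`); `13 ∣ |J|`, so `13 ∣ |A|`, but `13 ∤ |Ly|` (S3100, S1702). -/

set_option autoImplicit false

namespace Cfsg.Lib.GY

open Subgroup Cfsg.Lib.H33 Cfsg.Lib.SG Cfsg.Lib.SJ Cfsg.Lib.Transfer
open MulAut (conj)

variable {J G : Type*} [Group J] [Group G] [Finite G] {D : Dt J}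

/-- a Sylow 2-subgroup of order at least `2⁸` and of type `G₂(q)` -/
def G2T (X : Type*) [Group X] : Prop := 2 ^ 8 ∣ Nat.card X ∧ ∃ (E : Type) (_ : Field E) (_ : Fintype E), Odd (Fintype.card E) ∧
  ∃ (S : Sylow 2 X) (P : Sylow 2 (Lie.chevG2.group E)), Nonempty ((S : Subgroup X) ≃* (P : Subgroup (Lie.chevG2.group E)))

theorem exists_sec {Γ : Type*} [Group Γ] {q : G →* Γ} (qs : Function.Surjective q) (k : OD q.ker) {P : Subgroup Γ} (p : IsPGroup 2 P) {t : G}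
    (t2 : t * t = 1) (m : q t ∈ P) : ∃ σ : P →* G, (∀ a, q (σ a) = a) ∧ t ∈ σ.range := by
  have hf : Function.Surjective (q.subgroupComap P) := MonoidHom.subgroupComap_surjective_of_surjective _ _ qs
  obtain ⟨Y, hY⟩ := (pg_zp (a := (⟨t, m⟩ : P.comap q)) (Subtype.ext t2)).exists_le_sylow
  have : Finite P := .of_surjective _ hf
  let e := MulEquiv.ofBijective ((q.subgroupComap P).comp (Y : Subgroup (P.comap q)).subtype) ⟨(injective_iff_map_eq_one _).2 fun x p =>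
    let ⟨_, r⟩ := Y.2 x; Subtype.ext (Subtype.ext (SH.od_pg k (congrArg Subtype.val p) (congrArg (·.1.1) r))), fun a =>
    let ⟨x, p, q⟩ := ((Y.mapSurjective hf).3 (p.to_subgroup ⊤) le_top).le (mem_top a); ⟨⟨x, p⟩, q⟩⟩
  exact ⟨((Subgroup.subtype _).comp (Subgroup.subtype _)).comp e.symm.toMonoidHom, fun a => congrArg Subtype.val (e.apply_symm_apply a),
    e ⟨_, hY (mem_zpowers _)⟩, congrArg (·.1.1) (e.symm_apply_apply _)⟩

theorem Fx.cjA (F : Fx D) (S : SJ.Qs J G) {u v : G} (p : u ∈ S.A) (u2 : u * u = 1) (u1 : u ≠ 1) (q : v ∈ S.A) (v2 : v * v = 1) (v1 : v ≠ 1) :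
    ∃ d ∈ S.A, d * u * d⁻¹ = v := by
  have k : ∀ {u}, u ∈ S.A → u * u = 1 → u ≠ 1 → ∃ a, S.L u a ∧ IsConj (D.e 32) a := fun p u2 u1 =>
    let ⟨a, l⟩ := S.ex p
    ⟨a, l, F.cls a ((l.mul l).uniq F.toFb (u2 ▸ S.L_one)) fun e => u1 (S.odd _ ⟨p, (e ▸ l).one⟩ u2)⟩
  obtain ⟨a, l, c⟩ := k p u2 u1
  obtain ⟨b, m, d⟩ := k q v2 v1
  obtain ⟨g, rfl⟩ := isConj_iff.1 (c.symm.trans d)
  obtain ⟨x, r⟩ := S.ex' g
  exact ⟨x, r.1, ((r.mul l).mul r.inv).eq2 m (cj2 u2 x) v2⟩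

omit [Finite G] in
theorem Cx.ncm (F : Fx D) (R : Cx D G) : ¬IsMulCommutative R.X := fun h => by
  obtain ⟨x, l⟩ := R.ex' (D.e 32)
  exact F.z1 (l.eq_one F.toFb (mem_bot.1 ((commutator_le.2 fun a p b q => mem_bot.2 (commutatorElement_eq_one_iff_mul_comm.2
    (congrArg Subtype.val (h.is_comm.comm ⟨a, R.AX p⟩ ⟨b, R.AX q⟩))) : _ ≤ ⊥) (R.perf l.1)) ▸ one_mem _))

/-- a section over a `2`-subgroup of `N(O) / O` -/
structure Lf (R : Cx D G) {Γ : Type*} [Group Γ] (T : Cs J Γ) (P : Subgroup Γ) (q : normalizer (R.O : Set G) →* Γ) (σ : P →* G) : Prop where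
  qs : Function.Surjective q
  qk : ∀ x, q x = 1 ↔ x.1 ∈ R.O
  e1 : T.t = q ⟨_, R.cO R.Ot⟩
  e2 : ∀ x a (h : R.toQs.L x a), T.ψ a = q ⟨x, R.AO h.1⟩
  ti : TI T D P
  n : ∀ a, σ a ∈ normalizer (R.O : Set G)
  s : ∀ a, q ⟨σ a, n a⟩ = a
  t : R.t ∈ σ.range

namespace Lf

variable {R : Cx D G} {Γ : Type*} [Group Γ] [Finite Γ] {T : Cs J Γ} {P : Subgroup Γ} {q : normalizer (R.O : Set G) →* Γ} {σ : P →* G}
  (L : Lf R T P q σ) {w : P} {g : G}
include L

omit [Finite G] [Finite Γ] in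
theorem inj : Function.Injective σ := fun a b e => Subtype.ext ((L.s a).symm.trans ((congrArg q (Subtype.ext e)).trans (L.s b)))
omit [Finite G] [Finite Γ] in
theorem tP : T.t ∈ P := L.ti.le (s1 (S := T) (D := D) ▸ el_mem _ _)
omit [Finite G] [Finite Γ] in
theorem σt : σ ⟨_, L.tP⟩ = R.t := by
  obtain ⟨a, e⟩ := L.t
  rw [← e]; exact congrArg σ (Subtype.ext (L.e1.trans ((congrArg q (Subtype.ext e.symm)).trans (L.s a))))
omit [Finite G] [Finite Γ] in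
theorem q2 {x y} (e : q x = q y) : x.1⁻¹ * y.1 ∈ R.O := (L.qk (x⁻¹ * y)).1 (by rw [map_mul, map_inv, e, inv_mul_cancel])
omit [Finite G] [Finite Γ] in
theorem pg : IsPGroup 2 σ.range := L.ti.pg.of_surjective _ σ.rangeRestrict_surjective

omit [Finite Γ] in
theorem σA {a : J} (e : w.1 = T.ψ a) : σ w ∈ R.A := by
  obtain ⟨x, l⟩ := R.ex' a
  have o := L.q2 ((L.e2 x a l).symm.trans (e.symm.trans (L.s w).symm))
  obtain ⟨m, f⟩ := R.oO.pow o
  obtain ⟨k, r⟩ := SH.pg_el L.pg ⟨w, rfl⟩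
  refine mem_of_odd r (m := m) ?_
  rw [← mul_inv_cancel_left x (σ w), Commute.mul_pow (l.K (R.OK o)), f, mul_one]
  exact pow_mem l.1 _

omit [Finite G] [Finite Γ] in
theorem cc (w : P) : Nat.card ↥(σ.range ⊓ centralizer {σ w}) = Nat.card ↥(P ⊓ centralizer {w.1}) := by
  rw [inf_comm P, ← subgroupOf_map_subtype _ P, card_subtype, ← card_map_of_injective L.inj]
  refine congrArg (fun H : Subgroup G => Nat.card H) (Subgroup.ext fun x => ⟨fun ⟨⟨a, e⟩, p⟩ => mem_map.2 ⟨a, mc1.2 (congrArg Subtype.val (L.inj (a₁ := a * w) (a₂ := w * a) ?_)), e⟩, ?_⟩)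
  · rw [map_mul, map_mul, e, mc1.1 p]
  · rintro ⟨a, p, rfl⟩
    exact ⟨⟨a, rfl⟩, mc1.2 (by rw [← map_mul, ← map_mul]; exact congrArg σ (Subtype.ext (mc1.1 p)))⟩

omit [Finite Γ] in
theorem fus (F : Fx D) (m : cg R.t g ∈ σ.range)
    (c : Nat.card ↥(σ.range ⊓ centralizer {R.t}) ≤ Nat.card ↥(σ.range ⊓ centralizer {cg R.t g})) : ∃ y ∈ σ.range, cg R.t g = cg R.t y := by
  obtain ⟨w, e⟩ := m
  have w2 : σ w * σ w = 1 := by rw [e, ← cg_mul, R.t2, cg_one]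
  rw [← e, ← L.σt, L.cc, L.cc] at c
  obtain p | ⟨y, p, r⟩ := L.ti.k2 w w.2 (congrArg Subtype.val (L.inj (a₁ := w * w) (a₂ := 1) (by rw [map_mul, w2, map_one])))
    (fun z => R.t1 (cg_eq_one.1 (by rw [← e, show w = 1 from Subtype.ext z, map_one]))) (L.ti.i4.trans (Nat.mul_le_mul_left 4 c))
  · obtain ⟨x, l, x2⟩ := R.ex2 F.z2
    obtain ⟨d, p⟩ := isConj_iff.1 p
    obtain ⟨d, rfl⟩ := L.qs d
    rw [L.e2 x _ l, ← map_inv, ← map_mul, ← map_mul, ← L.s w] at p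
    have o := L.q2 p
    have c := cen_cj d.2 (show x ∈ centralizer (R.O : Set G) from fun o p => (l.K (R.OK p)).symm) _ o
    change (d.1 * x * d.1⁻¹)⁻¹ * σ w ∈ _ at o
    change (d.1 * x * d.1⁻¹)⁻¹ * σ w * _ = _ * ((d.1 * x * d.1⁻¹)⁻¹ * σ w) at c
    have y2 := cj2 x2 d.1
    refine absurd (show R.t = g * d * x * (g * d)⁻¹ from ?_) (R.nd F.toFb R.toQs l x2 (F.der F.z2 F.z1))
    have : d.1 * x * d.1⁻¹ = σ w := inv_mul_eq_one.1 (R.oO _ o (by
      generalize d.1 * x * d.1⁻¹ = y at *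
      rw [inv2 y2] at c ⊢
      rw [sq2 y2] at c
      exact sq_of_comm y2 w2 (by rw [← c, ← mul_assoc, ← mul_assoc, y2, one_mul, c])))
    rw [← cg_symm e.symm, ← this]; simp [cg, mul_assoc]
  · exact ⟨σ ⟨y, p⟩, ⟨_, rfl⟩, by rw [← e, ← L.σt, cg_map]; exact congrArg σ (Subtype.ext r)⟩

theorem syl (F : Fx D) : ¬2 ∣ σ.range.index := fun d => by
  obtain ⟨g, a, b, c⟩ := climb L.pg (by rw [← card_mul_index σ.range, mul_comm]; exact Nat.mul_dvd_mul_left _ d)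
  obtain ⟨y, p, e⟩ := L.fus F (cg_mem_norm L.t a) (card_conj g⁻¹ _ ▸ card_le_of_le (conj_le_iff.2 fun x p =>
    ⟨by simpa [cg] using cg_mem_norm p.1 a, mc1.2 (by simpa [cg] using cjc (mc1.1 p.2) g⁻¹)⟩))
  have a' := mul_mem a (le_normalizer (inv_mem p))
  have c' : g * y⁻¹ * (g * y⁻¹) ∈ σ.range := by
    simpa [cg, mul_assoc] using mul_mem (mul_mem c (cg_mem_norm (inv_mem p) a)) (inv_mem p)
  have e' : g * y⁻¹ * R.t = R.t * (g * y⁻¹) := (cg_eq_iff.1 (by rw [← cg_cg, e, cg_cg_inv])).symm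
  rw [← mul_mem_cancel_right (inv_mem p)] at b
  generalize g * y⁻¹ = g at *
  have m := L.ti.nrm (q ⟨g, R.nO e'⟩) (mem_normalizer_fintype fun x p => by
    obtain ⟨v, r⟩ := nrm_of a' ⟨⟨x, p⟩, rfl⟩
    have := (L.s v).symm.trans (congrArg q (Subtype.ext r : _ = ⟨g, R.nO e'⟩ * ⟨_, L.n ⟨x, p⟩⟩ * ⟨g, R.nO e'⟩⁻¹))
    rw [map_mul, map_mul, map_inv, L.s] at this
    exact this ▸ v.2) (by rw [L.e1, ← map_mul, ← map_mul]; exact congrArg q (Subtype.ext e'))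
  obtain ⟨k, r⟩ := SH.pg_el (pg_sup' L.pg c' a') (mul_mem (inv_mem (mem_sup_left ⟨⟨_, m⟩, rfl⟩)) (mem_sup_right (mem_zpowers g)))
  exact b ⟨_, inv_mul_eq_one.1 (SH.od_pg R.oO (L.q2 (L.s ⟨_, m⟩)) r)⟩

theorem tX (F : Fx D) : R.t ∉ R.X := fun h => by
  have := R.sX
  obtain ⟨N, g, a, b, c, d⟩ := Par.thompson (L.pg.toSylow (L.syl F)) (H := σ.range) (C := σ.range ⊓ centralizer {R.t}) le_rfl L.t
    (fun m => by
      rw [MonoidHom.range_eq_map, ← map_commutator, ← L.σt] at m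
      exact L.ti.nd (P.map_subtype_commutator.le ⟨_, (mem_map_iff_mem L.inj).1 m, rfl⟩)) R.t2
    (mem_sup_right (commutator_mono le_top le_top (R.X.map_subtype_commutator.le ⟨⟨_, h⟩, (Comp.isQuasisimple_commutator_eq_top
      (Comp.isQuasisimple_of_isSimpleGroup (R.ncm F))).ge trivial, rfl⟩))) L.pg.to_inf_left inf_le_right
  have e : cg R.t g⁻¹ = g * R.t * g⁻¹ := by simp [cg]
  obtain ⟨y, p, f⟩ := L.fus F (g := g⁻¹) (e ▸ d (conj_mem_conj.2 ⟨L.t, mc1.2 rfl⟩)) (card_conj g _ ▸ card_le_of_le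
    (le_inf d (conj_le_iff.2 fun x p => mc1.2 (e ▸ cjc (mc1.1 p.2) g))))
  rw [← e, f] at c
  exact b (by simpa [cg, commutatorElement_def, mul_assoc] using mul_mem (inv_mem (a (commutator_mem_commutator (inv_mem p) L.t))) c)

theorem main (F : Fx D) : G2T R.X := by
  have := R.sX
  have := R.nX
  have tX := L.tX F
  have h7 := F.p7 T
  obtain ⟨S, hS⟩ : ∃ S : Sylow 2 R.X, (S : Subgroup R.X) = σ.range.subgroupOf R.X :=
    ⟨(L.pg.comap_subtype (K := R.X)).toSylow (sylow_not_dvd_relIndex_normal (L.pg.toSylow (L.syl F)) R.X), rfl⟩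
  have c1 : 256 ≤ Nat.card S := by
    have := card_le_two (H := R.X) (N := σ.range) fun a _ b _ => (R.gen a).elim .inl fun p => (R.gen b).elim (.inr ∘ .inl) fun r =>
      .inr (.inr (by simpa [mul_assoc, R.tt, R.t2, inv2 R.t2] using mul_mem p (Normal.conj_mem ‹_› _ r R.t)))
    have b := L.ti.big
    rw [← Nat.card_congr (MonoidHom.ofInjective L.inj).toEquiv, ← subgroupOf_map_subtype, card_subtype, ← hS] at this
    omega
  have c2 : 2 ^ 8 ∣ Nat.card S := by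
    obtain ⟨n, e⟩ := IsPGroup.iff_card.1 S.2
    exact e ▸ pow_dvd_pow 2 ((Nat.pow_le_pow_iff_right one_lt_two).1 (e ▸ c1))
  have c3 := c2.trans (card_subgroup_dvd_card _)
  choose ν hν using fun s : S => show ∃ a, σ a = s.1.1 from hS.le s.2
  let μ : S →* Γ := P.subtype.comp (.mk' ν fun a b => L.inj (by rw [map_mul, hν, hν, hν]; rfl))
  have μi : Function.Injective μ := fun a b e => Subtype.ext (Subtype.ext (by rw [← hν, ← hν, show ν a = ν b from Subtype.ext e]))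
  have μr : ∀ w : P, σ w ∈ R.X → w.1 ∈ μ.range := fun w p => ⟨⟨⟨_, p⟩, hS.ge ⟨w, rfl⟩⟩, congrArg Subtype.val (L.inj (hν _))⟩
  have μψ : ∀ g ∈ T.ψ.range ⊓ P, g ∈ μ.range := fun g ⟨⟨a, e⟩, p⟩ => μr ⟨g, p⟩ (R.AX (L.σA e.symm))
  have μe : ∀ k, k % 2 = 0 → el (g7 T D) k ∈ μ.range := fun k e => μψ _ ⟨by
    rw [show k = 2 * (k / 2) by omega, s2]; exact ⟨_, rfl⟩, L.ti.le (el_mem _ _)⟩
  have μt : T.t ∉ μ.range := fun ⟨s, e⟩ => tX (by rw [← L.σt, ← show ν s = ⟨_, L.tP⟩ from Subtype.ext e, hν]; exact s.1.2)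
  have cm0 : ∀ {gs E N}, PG gs E N → (∀ k, el gs k ∈ μ.range) → Nat.card ((gen gs).comap μ) = N := fun h p => by
    rw [← card_map_of_injective μi, map_comap_eq_self fun x m => let ⟨k, _, e⟩ := h.ex m; e ▸ p k, h.card]
  have ea : ∀ {gs E N}, PG gs E N → (∀ k < N, EQ N (mul E k k) 0) → EA ((gen gs).comap μ) := fun h p x m => μi (by
    obtain ⟨k, l, e⟩ := h.ex m
    rw [map_mul, e, h.mul, map_one, h.one]; exact (p k l).trans (Nat.zero_mod _))
  obtain ⟨gV, hV, eV⟩ := h7.sub' [4, 32, 64] [(0, [1, 2]), (0, [1]), (0, [])] 8 (by decide +kernel)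
  obtain ⟨gU, hU, eU⟩ := h7.sub' [32, 64] [(0, [1]), (0, [])] 4 (by decide +kernel)
  have cV := cm0 hV fun k => by
    rw [← el_modN hV, eV]; exact μe _ ((by decide +kernel : ∀ k < 8, hm (mul D7) [4, 32, 64] k % 2 = 0) _ (Nat.mod_lt _ (by decide)))
  have cU := cm0 hU fun k => by
    rw [← el_modN hU, eU]; exact μe _ ((by decide +kernel : ∀ k < 4, hm (mul D7) [32, 64] k % 2 = 0) _ (Nat.mod_lt _ (by decide)))
  have aV := ea hV (by decide +kernel)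
  have aU := ea hU (by decide +kernel)
  have u1 : el gU 1 = el (g7 T D) 32 := (eU 1).trans ((h7.eq _ _).2 (by decide +kernel))
  have u2 : el gU 2 = el (g7 T D) 64 := (eU 2).trans ((h7.eq _ _).2 (by decide +kernel))
  have u3 : el gU 3 = el (g7 T D) 96 := (eU 3).trans ((h7.eq _ _).2 (by decide +kernel))
  have nt : Nontrivial ((gen gU).comap μ) := Finite.one_lt_card_iff_nontrivial.1 (by omega)
  rcases Agent.S3102.result (X := R.X) (fun N n e => n.eq_bot_or_eq_top.elim (fun f => by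
      rw [f, index_bot] at e; rw [e] at c3; revert c3; decide) fun f => by simp [f] at e) (Rk2.not_isolated (R.ncm F)) S
    (fun h => by
      have := h _ ⟨⟨fun a b => Subtype.ext (aV.comm a.2 b.2)⟩⟩ fun a p => (sq a).trans (aV a p)
      omega)
    (fun E n e c => by
      obtain ⟨x, hx, k⟩ := L.ti.k1
      have k1 : ∀ w ∈ E, ∀ g ∈ μ.range, cm (μ w) g * cm (μ w) g = 1 := by
        rintro w p _ ⟨s, rfl⟩
        have := congrArg μ (e.2 _ (mul_mem (inv_mem p) (n.conj_mem' w p s)))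
        simpa [cm, cg, sq] using this
      have := card_le_of_le (show E ≤ (gen gU).comap μ from fun w p => by
        have w2 : μ w * μ w = 1 := by rw [← map_mul, ← sq, e.2 w p, map_one]
        obtain ⟨j, l, i, f⟩ := h7.ex_ms (by decide +kernel) (k _ (ν w).2 w2 ((R.gen (σ ⟨x, hx⟩)).imp
          (fun r g s => k1 w p g (s.elim (μψ g) (· ▸ μr _ r))) fun r g s => k1 w p g (s.elim (μψ g) (· ▸ μr (⟨x, hx⟩ * ⟨_, L.tP⟩)
            (by rwa [map_mul, L.σt])))))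
        change μ w = _ at f
        rcases Nat.even_or_odd' j with ⟨j, rfl | rfl⟩
        · obtain ⟨i, r⟩ := (by decide +kernel : ∀ j < 128, IM 97 j → j % 2 = 0 → ∃ i < 4, EQ 128 j (hm (mul D7) [32, 64] i)) _ l i (by omega)
          rw [mem_comap, f, (h7.eq _ _).2 r.2, ← eU]; exact el_mem _ _
        · rw [s21, ← s2] at f
          exact absurd ((mul_mem_cancel_right (μe (2 * j) (by omega))).1 ⟨w, f⟩) μt)
      omega) ((gen gU).comap μ)
    ⟨cU, (Monoid.exponent_eq_prime_iff Nat.prime_two).2 fun a p => orderOf_eq_prime (Subtype.ext ((sq a.1).trans (aU _ a.2))) p⟩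
    ⟨fun u p s => by
      have := L.ti.nF _ (inv_mem (ν s).2)
      have n : (μ s)⁻¹ ∈ normalizer (gen gU : Set Γ) := mem_norm_of_cg fun x m => by
        refine (hU.gen_le_iff (H := (gen gU).comap (cgH (μ s)⁻¹))).2 (fun i l => ?_) m |> (cgH_apply _ x ▸ ·)
        rw [mem_comap, cgH_apply]
        obtain rfl | rfl : i = 0 ∨ i = 1 := by change i < 2 at l; omega
        · exact this.2.elim (fun e => u1.symm ▸ e.symm ▸ u1 ▸ el_mem _ _) fun e => u1.symm ▸ e.symm ▸ u3 ▸ el_mem _ _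
        · exact u2.symm ▸ this.1.symm ▸ u2 ▸ el_mem _ _
      simpa using nrm_of (inv_mem_iff.1 n) p⟩
    (fun u p v r u1 v1 => by
      have k : ∀ u ∈ (gen gU).comap μ, u.1.1 ∈ R.A := fun u p => by
        obtain ⟨j, l, e⟩ := hU.ex p
        obtain ⟨i, f⟩ : ∃ i, hm (mul D7) [32, 64] j = 2 * i :=
          ⟨_, (Nat.two_mul_div_two_of_even (Nat.even_iff.2 ((by decide +kernel : ∀ k < 4, hm (mul D7) [32, 64] k % 2 = 0) j l))).symm⟩
        rw [eU, f, s2] at e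
        exact hν u ▸ L.σA e
      obtain ⟨d, m, e⟩ := F.cjA R.toQs (k u p) (congrArg (·.1.1) (aU u p)) (fun e => u1 (Subtype.ext (Subtype.ext e))) (k v r)
        (congrArg (·.1.1) (aU v r)) fun e => v1 (Subtype.ext (Subtype.ext e))
      exact isConj_iff.2 ⟨⟨d, R.AX m⟩, Subtype.ext e⟩) with ⟨E, _, _, o, Q, i⟩ | ⟨Q, ⟨i⟩⟩ | i
  · exact ⟨c3, E, _, _, Nat.odd_iff.2 (by omega), S, Q, i⟩
  · have := (Nat.card_congr i.toEquiv ▸ c2 :).trans (card_subgroup_dvd_card _)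
    rw [J2.card_J2] at this
    exact absurd this (by decide)
  · obtain ⟨i⟩ := Agent.S3100.result (R.ncm F) S i
    have := (card_dvd_of_surjective _ (R.ρ_sur F.toFb)).trans (card_dvd_of_le R.AX)
    rw [F.card, Nat.card_congr i.toEquiv, Agent.S1702.result.2] at this
    exact absurd this (by decide)

end Lf

theorem Cx.lift (F : Fx D) (R : Cx D G) (T : Cs J (_ ⧸ R.O.subgroupOf (normalizer (R.O : Set G))))
    (e1 : T.t = R.q ⟨_, R.cO R.Ot⟩) (e2 : ∀ x a (h : R.toQs.L x a), T.ψ a = R.q ⟨x, R.AO h.1⟩) {P} (h : TI T D P) : G2T R.X := by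
  obtain ⟨σ, s, m⟩ := exists_sec (QuotientGroup.mk'_surjective _) (fun x p x2 => Subtype.ext (R.oO _ (R.q1.1 p) (congrArg Subtype.val x2)))
    h.pg (t := ⟨_, R.cO R.Ot⟩) (Subtype.ext R.t2) (e1 ▸ h.le (s1 (S := T) (D := D) ▸ el_mem _ _))
  exact Lf.main (σ := (Subgroup.subtype _).comp σ) ⟨QuotientGroup.mk'_surjective _, fun _ => R.q1, e1, e2, h, fun a => (σ a).2, s,
    m.imp fun _ => congrArg Subtype.val⟩ F

end Cfsg.Lib.GY
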